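import Cfsg.Agent.H682.Fpf.AltTwelve
import Cfsg.Agent.H80.Fpf.Reduce
import Cfsg.Agent.HN.A12Group
import Cfsg.Agent.S1701

/-!
# S4228: the row of the Harada-Norton group (helper682)
-/

set_option autoImplicit false
set_option linter.style.haveILetI false

namespace Cfsg.Agent.H682.Fpf

open Cfsg Cfsg.Agent.H80.Fpf Equiv.Perm

/-- **The row of `HN`.** -/
theorem row_hn : Row Cfsg.Spor.HN := by
  haveI hs : IsSimpleGroup Spor.HN := S1701.result.1
  have hc := S1701.result.2
  haveI : Finite Spor.HN := Nat.finite_of_card_ne_zero (by rw [hc]; norm_num)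
  obtain ⟨K, ⟨e⟩⟩ := HN.A12Group.exists_alternating
  let f : alternatingGroup (Fin 12) →* Spor.HN := K.subtype.comp e.symm.toMonoidHom
  have hf : Function.Injective f := K.subtype_injective.comp e.symm.injective
  refine row_of 11 19 fun r hr hr2 hd h11 h19 => ?_
  have hd' : r = 3 ∨ r = 5 ∨ r = 7 := by
    have h1 : r ∣ 2 ^ 14 * 3 ^ 6 * 5 ^ 6 * 7 * 11 * 19 := by
      rw [hc] at hd
      exact hd
    have hp := hr.prime
    have key : ∀ q : ℕ, q.Prime → r ∣ q → r = q := fun q hq h => (Nat.prime_dvd_prime_iff_eq hr hq).1 h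
    rcases hp.dvd_or_dvd h1 with h1 | h1
    · rcases hp.dvd_or_dvd h1 with h1 | h1
      · rcases hp.dvd_or_dvd h1 with h1 | h1
        · rcases hp.dvd_or_dvd h1 with h1 | h1
          · rcases hp.dvd_or_dvd h1 with h1 | h1
            · exact absurd (key 2 Nat.prime_two (hr.dvd_of_dvd_pow h1)) hr2
            · exact Or.inl (key 3 Nat.prime_three (hr.dvd_of_dvd_pow h1))
          · exact Or.inr (Or.inl (key 5 Nat.prime_five (hr.dvd_of_dvd_pow h1)))
        · exact Or.inr (Or.inr (key 7 (by norm_num) h1))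
      · exact absurd (key 11 (by norm_num) h1) h11
    · exact absurd (key 19 (by norm_num) h1) h19
  rcases hd' with rfl | rfl | rfl
  · exact not_may_three f hf
  · exact not_may_five f hf
  · exact not_may_seven f hf

end Cfsg.Agent.H682.Fpf
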