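import Cfsg.Agent.H80.Fpf.Loc

/-!
# S4228: tools for groups containing `A₁₂` (helper682)
-/

set_option autoImplicit false
set_option linter.style.haveILetI false
set_option maxRecDepth 10000

namespace Cfsg.Agent.H682.Fpf

open Cfsg Cfsg.Agent.H80.Fpf Equiv.Perm

def a3 : Equiv.Perm (Fin 12) := List.formPerm [0, 1, 2]
def b3 : Equiv.Perm (Fin 12) := List.formPerm [3, 4, 5]
def a5 : Equiv.Perm (Fin 12) := List.formPerm [0, 1, 2, 3, 4]
def b5 : Equiv.Perm (Fin 12) := List.formPerm [5, 6, 7, 8, 9]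
def x7 : Equiv.Perm (Fin 12) := List.formPerm [1, 2, 4, 3, 6, 7, 5]

/-- the translation by `c`, as a function -/
def tf (c : Fin 8) (i : Fin 12) : Fin 12 := if i.1 < 8 then ⟨(i.1 ^^^ c.1) % 12, Nat.mod_lt _ (by norm_num)⟩ else i

theorem tf_tf : ∀ (c : Fin 8) (i : Fin 12), tf c (tf c i) = i := by decide +kernel

/-- the translation by `c` -/
def tv (c : Fin 8) : Equiv.Perm (Fin 12) := ⟨tf c, tf c, tf_tf c, tf_tf c⟩

theorem tf_mul : ∀ (c d : Fin 8) (i : Fin 12), tf c (tf d i) = tf (c ^^^ d) i := by decide +kernel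
theorem tv_mul (c d : Fin 8) : tv c * tv d = tv (c ^^^ d) := Equiv.ext (tf_mul c d)
theorem tv_zero : tv 0 = 1 := by decide +kernel
theorem tv_inv (c : Fin 8) : (tv c)⁻¹ = tv c := rfl
theorem tv_sq (c : Fin 8) : tv c ^ 2 = 1 := by
  rw [sq]
  exact Equiv.ext (tf_tf c)
theorem tv_conj : ∀ c : Fin 8, ∃ d : Fin 8, x7 * tv c = tv d * x7 := by decide +kernel
theorem x7_t1 : x7 * tv 1 ≠ tv 1 * x7 := by decide +kernel
theorem tv_mem (c : Fin 8) : tv c ∈ alternatingGroup (Fin 12) := by
  rw [mem_alternatingGroup]; revert c; decide +kernel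
theorem a3_mem : a3 ∈ alternatingGroup (Fin 12) := by rw [mem_alternatingGroup]; decide +kernel
theorem b3_mem : b3 ∈ alternatingGroup (Fin 12) := by rw [mem_alternatingGroup]; decide +kernel
theorem a5_mem : a5 ∈ alternatingGroup (Fin 12) := by rw [mem_alternatingGroup]; decide +kernel
theorem b5_mem : b5 ∈ alternatingGroup (Fin 12) := by rw [mem_alternatingGroup]; decide +kernel
theorem x7_mem : x7 ∈ alternatingGroup (Fin 12) := by rw [mem_alternatingGroup]; decide +kernel
theorem x7_pow : x7 ^ 7 = 1 := by decide +kernel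
theorem x7_ne : x7 ≠ 1 := by decide +kernel

/-- the translations as a subgroup -/
def Tr : Subgroup (alternatingGroup (Fin 12)) where
  carrier := {g | ∃ c : Fin 8, (g : Equiv.Perm (Fin 12)) = tv c}
  mul_mem' := by
    rintro a b ⟨c, hc⟩ ⟨d, hd⟩
    exact ⟨c ^^^ d, by rw [Subgroup.coe_mul, hc, hd, tv_mul]⟩
  one_mem' := ⟨0, tv_zero.symm⟩
  inv_mem' := by
    rintro a ⟨c, hc⟩
    exact ⟨c, by rw [Subgroup.coe_inv, hc, tv_inv]⟩

/-- commuting elements `a`, `b` of `A₁₂`, `a` fixing a point moved by `b` -/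
theorem not_may_comm {S : Type*} [Group S] [Finite S] (f : alternatingGroup (Fin 12) →* S)
    (hf : Function.Injective f) {r : ℕ} (hr : r.Prime) (hr2 : r ≠ 2) {a b : Equiv.Perm (Fin 12)}
    (ha : a ∈ alternatingGroup (Fin 12)) (hb : b ∈ alternatingGroup (Fin 12)) (hab : a * b = b * a)
    (ha1 : a ≠ 1) (har : a ^ r = 1) (hbr : b ^ r = 1) {i : Fin 12} (hai : a i = i) (hbi : b i ≠ i) : ¬ May r S := by
  haveI : Fact r.Prime := ⟨hr⟩
  have hb1 : b ≠ 1 := by rintro rfl; exact hbi rfl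
  have oa : orderOf (f ⟨a, ha⟩) = r := by
    rw [orderOf_injective f hf]
    exact orderOf_eq_prime (Subtype.ext har) (fun h => ha1 (congrArg Subtype.val h))
  have ob : orderOf (f ⟨b, hb⟩) = r := by
    rw [orderOf_injective f hf]
    exact orderOf_eq_prime (Subtype.ext hbr) (fun h => hb1 (congrArg Subtype.val h))
  refine not_may_of_comm hr hr2 ?_ oa ob ?_
  · rw [← map_mul, ← map_mul]
    congr 1
    exact Subtype.ext hab
  · intro h
    obtain ⟨k, hk⟩ := Subgroup.mem_zpowers_iff.1 h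
    rw [← map_zpow] at hk
    have h1 : (⟨a, ha⟩ : alternatingGroup (Fin 12)) ^ k = ⟨b, hb⟩ := hf hk
    have h2 : a ^ k = b := congrArg Subtype.val h1
    apply hbi
    rw [← h2]
    have h3 : a ∈ MulAction.stabilizer (Equiv.Perm (Fin 12)) i := hai
    exact (MulAction.stabilizer (Equiv.Perm (Fin 12)) i).zpow_mem h3 k

theorem not_may_three {S : Type*} [Group S] [Finite S] (f : alternatingGroup (Fin 12) →* S)
    (hf : Function.Injective f) : ¬ May 3 S :=
  not_may_comm f hf (i := 3) Nat.prime_three (by norm_num) a3_mem b3_mem (by decide +kernel) (by decide +kernel)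
      (by decide +kernel) (by decide +kernel) (by decide +kernel) (by decide +kernel)

theorem not_may_five {S : Type*} [Group S] [Finite S] (f : alternatingGroup (Fin 12) →* S)
    (hf : Function.Injective f) : ¬ May 5 S :=
  not_may_comm f hf (i := 5) Nat.prime_five (by norm_num) a5_mem b5_mem (by decide +kernel) (by decide +kernel)
      (by decide +kernel) (by decide +kernel) (by decide +kernel) (by decide +kernel)

theorem not_may_seven {S : Type*} [Group S] [Finite S] [IsSimpleGroup S] (f : alternatingGroup (Fin 12) →* S)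
    (hf : Function.Injective f) : ¬ May 7 S := by
  haveI : Fact (Nat.Prime 7) := ⟨by norm_num⟩
  have ox : orderOf (f ⟨x7, x7_mem⟩) = 7 := by
    rw [orderOf_injective f hf]
    apply orderOf_eq_prime
    · exact Subtype.ext x7_pow
    · intro h
      exact x7_ne (congrArg Subtype.val h)
  refine not_may_of_act (l := 2) (K := Tr.map f) (k := f ⟨tv 1, tv_mem 1⟩) (by norm_num) (by norm_num) Nat.prime_two
    (by norm_num) (good_two_of_dvd Nat.prime_three (by norm_num) (by norm_num)) ?_ ox ?_ ?_ ?_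
  · have h1 : IsPGroup 2 Tr := by
      rintro ⟨g, c, hc⟩
      refine ⟨1, Subtype.ext (Subtype.ext ?_)⟩
      change (g : Equiv.Perm (Fin 12)) ^ 2 = 1
      rw [hc, tv_sq]
    exact h1.map f
  · rintro _ ⟨g, ⟨c, hc⟩, rfl⟩
    refine ⟨⟨x7, x7_mem⟩ * g * ⟨x7, x7_mem⟩⁻¹, ?_, by rw [map_mul, map_mul, map_inv]⟩
    obtain ⟨d, hd⟩ := tv_conj c
    refine ⟨d, ?_⟩
    change x7 * (g : Equiv.Perm (Fin 12)) * x7⁻¹ = tv d
    rw [hc, hd, mul_inv_cancel_right]
  · exact ⟨_, ⟨1, rfl⟩, rfl⟩
  · intro h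
    rw [← map_mul, ← map_mul] at h
    exact x7_t1 (congrArg Subtype.val (hf h))

end Cfsg.Agent.H682.Fpf
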